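import Cfsg.Agent.H203.EPX.Defs

/-!
# S5745, row (2E6(2), Fi22): transport of the structure `GSide` of helper203 along an isomorphism (helper775)
-/

set_option autoImplicit false

namespace Cfsg.Agent.H775.EPF

open Subgroup
open scoped commutatorElement

variable {G G' : Type*} [Group G] [Group G']

theorem mem_map_eq (f : G ≃* G') {Q : Subgroup G} {y : G'} : y ∈ Q.map f.toMonoidHom ↔ f.symm y ∈ Q := by
  constructor
  · rintro ⟨x, hx, rfl⟩
    have : f.symm (f x) ∈ Q := by rwa [f.symm_apply_apply]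
    exact this
  · intro h
    exact ⟨_, h, f.apply_symm_apply y⟩

theorem mem_cent_eq (f : G ≃* G') {a : G} {y : G'} :
    y ∈ centralizer ({f a} : Set G') ↔ f.symm y ∈ centralizer ({a} : Set G) := by
  rw [mem_centralizer_iff, mem_centralizer_iff]
  constructor
  · rintro h _ rfl
    have h1 := h _ rfl
    apply f.injective
    rw [map_mul, map_mul, f.apply_symm_apply]
    exact h1
  · rintro h _ rfl
    have h1 := h _ rfl
    have h2 := congrArg f h1
    rw [map_mul, map_mul, f.apply_symm_apply] at h2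
    exact h2

theorem mem_zpowers_eq (f : G ≃* G') {a : G} {y : G'} : y ∈ zpowers (f a) ↔ f.symm y ∈ zpowers a := by
  constructor
  · rintro ⟨k, rfl⟩
    refine ⟨k, ?_⟩
    show a ^ k = f.symm ((f a) ^ k)
    rw [map_zpow, f.symm_apply_apply]
  · rintro ⟨k, hk⟩
    refine ⟨k, ?_⟩
    show (f a) ^ k = y
    have h1 : a ^ k = f.symm y := hk
    rw [← map_zpow, h1, f.apply_symm_apply]

theorem cent_map_eq (f : G ≃* G') (a : G) :
    centralizer ({f a} : Set G') = (centralizer ({a} : Set G)).map f.toMonoidHom := by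
  ext y
  rw [mem_cent_eq, mem_map_eq]

theorem card_map_eq (f : G ≃* G') (Q : Subgroup G) : Nat.card (Q.map f.toMonoidHom) = Nat.card Q :=
  (Nat.card_congr (Q.equivMapOfInjective _ f.injective).toEquiv).symm

/-- transport along an isomorphism -/
theorem gside_map (f : G ≃* G') {r u : G} {Q : Subgroup G} (h : H203.EPX.GSide r Q u) :
    H203.EPX.GSide (f r) (Q.map f.toMonoidHom) (f u) where
  rr := by rw [← map_mul, h.rr, map_one]
  r1 := by
    intro e
    apply h.r1
    apply f.injective
    rw [e, map_one]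
  rQ := ⟨r, h.rQ, rfl⟩
  le := by
    rw [cent_map_eq]
    exact Subgroup.map_mono h.le
  nor := by
    intro x hx v hv
    rw [mem_cent_eq] at hx
    rw [mem_map_eq] at hv ⊢
    have h1 := h.nor _ hx _ hv
    rw [map_mul, map_mul, map_inv]
    exact h1
  two := h.two.map _
  com := by
    intro v hv w hw
    rw [mem_map_eq] at hv hw
    rw [mem_zpowers_eq, map_commutatorElement]
    exact h.com _ hv _ hw
  surj := by
    intro v hv hvz
    rw [mem_map_eq] at hv
    rw [mem_zpowers_eq] at hvz
    obtain ⟨w, hw, he⟩ := h.surj _ hv hvz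
    refine ⟨f w, ⟨w, hw, rfl⟩, ?_⟩
    have e1 := congrArg f he
    rw [map_commutatorElement, f.apply_symm_apply] at e1
    exact e1
  card := by
    rw [cent_map_eq, card_map_eq, card_map_eq, h.card]
  fix := by
    intro v hv hx
    rw [mem_map_eq] at hv
    rw [mem_zpowers_eq]
    apply h.fix _ hv
    intro x hxc
    have h1 := hx (f x) (by
      rw [mem_cent_eq, f.symm_apply_apply]
      exact hxc)
    rw [mem_zpowers_eq, map_commutatorElement, f.symm_apply_apply] at h1
    exact h1
  uQ := ⟨u, h.uQ, rfl⟩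
  u1 := by
    rw [mem_zpowers_eq, f.symm_apply_apply]
    exact h.u1
  tr := by
    intro k hc hQ
    obtain ⟨k, rfl⟩ := f.surjective k
    have e1 : f k * f r * (f k)⁻¹ = f (k * r * k⁻¹) := by rw [map_mul, map_mul, map_inv]
    rw [e1] at hc hQ ⊢
    rw [mem_map_eq, f.symm_apply_apply] at hQ
    rw [mem_zpowers_eq, map_commutatorElement, f.symm_apply_apply, f.symm_apply_apply]
    apply h.tr k _ hQ
    apply f.injective
    rw [map_mul f (k * r * k⁻¹) r, map_mul f r (k * r * k⁻¹)]
    exact hc
  seven := by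
    obtain ⟨x, h1, h2, h3⟩ := h.seven
    refine ⟨f x, ?_, ?_, ?_⟩
    · rw [mem_cent_eq, f.symm_apply_apply]
      exact h1
    · rw [MulEquiv.orderOf_eq, h2]
    · rw [← map_mul, h3, map_mul]
  five := by
    obtain ⟨x, h1, h2, h3⟩ := h.five
    refine ⟨f x, ?_, ?_, ?_⟩
    · rw [mem_cent_eq, f.symm_apply_apply]
      exact h1
    · rw [MulEquiv.orderOf_eq, h2]
    · rw [← map_mul, h3, map_mul]
  opp := by
    intro k ho v hv hc
    obtain ⟨k, rfl⟩ := f.surjective k
    rw [mem_map_eq] at hv
    have e1 : f k * f r * (f k)⁻¹ = f (k * r * k⁻¹) := by rw [map_mul, map_mul, map_inv]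
    rw [e1] at ho hc
    rw [← map_mul, MulEquiv.orderOf_eq] at ho
    have h1 := h.opp k ho (f.symm v) hv (by
      apply f.injective
      rw [map_mul f (f.symm v) (k * r * k⁻¹), map_mul f (k * r * k⁻¹) (f.symm v), f.apply_symm_apply]
      exact hc)
    rw [← f.apply_symm_apply v, h1, map_one]
  bt := by
    intro d hd h11
    obtain ⟨d, rfl⟩ := f.surjective d
    rw [MulEquiv.orderOf_eq] at hd
    rw [cent_map_eq, card_map_eq] at h11
    obtain ⟨k, hk⟩ := h.bt d hd h11
    refine ⟨f k, ?_⟩
    have e1 : f k * f r * (f k)⁻¹ = f (k * r * k⁻¹) := by rw [map_mul, map_mul, map_inv]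
    rw [e1, cent_map_eq, cent_map_eq]
    exact Subgroup.map_mono hk

end Cfsg.Agent.H775.EPF
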